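import Mathlib

/-!
# Arithmetic behind the characterisation of groups with involution centraliser `D₈`

Pure integer/rational arithmetic used in `Lib.Invol8.Main`.
-/

set_option autoImplicit false
set_option linter.style.haveILetI false
set_option linter.unusedVariables false

namespace Cfsg.Agent.Lib.Invol8.Arith

lemma aux_frac (e u : ℚ) (he : e ≠ 0) (hu : u ≠ 0) (h : u = 2 * e + 1) :
    1 + 1 / e + 1 / e + -(1 / u) = 2 * (e + 1) ^ 2 / (e * u) := by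
  field_simp
  rw [h]
  ring

/-- The final computation: from the class-product sums we extract `N ∈ {21, 45}`. -/
theorem final_arith (e₁ e₂ e₃ a₄ d₄ N : ℤ) (hN : 0 < N)
    (h1 : ∃ k, e₁ = 8 * k + 3) (h2 : ∃ k, e₂ = 8 * k + 3)
    (hO4 : 1 + e₁ + e₂ + e₃ = 0)
    (hO5 : 1 - e₁ - e₂ + e₃ + a₄ * d₄ = 0)
    (ha₄ : a₄ ^ 2 = 4) (hd₄ : d₄ ≠ 0) (he3 : e₃ ≠ 0)
    (hF1 : (1 + (-1) / (e₁ : ℚ) + (-1) / (e₂ : ℚ) + 1 / (e₃ : ℚ) + (a₄ : ℚ) ^ 3 / d₄ : ℚ) = 32 / N)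
    (hF2 : (1 + 1 / (e₁ : ℚ) + 1 / (e₂ : ℚ) + 1 / (e₃ : ℚ) : ℚ) = 32 / N) : N = 21 ∨ N = 45 := by
  obtain ⟨k₁, hk₁⟩ := h1
  obtain ⟨k₂, hk₂⟩ := h2
  have he₁ : e₁ ≠ 0 := by omega
  have he₂ : e₂ ≠ 0 := by omega
  have he₁₂ : e₁ + e₂ ≠ 0 := by omega
  have he₁q : (e₁ : ℚ) ≠ 0 := by exact_mod_cast he₁
  have he₂q : (e₂ : ℚ) ≠ 0 := by exact_mod_cast he₂
  have he₃q : (e₃ : ℚ) ≠ 0 := by exact_mod_cast he3
  have he₁₂q : (e₁ : ℚ) + e₂ ≠ 0 := by exact_mod_cast he₁₂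
  have hd₄q : (d₄ : ℚ) ≠ 0 := by exact_mod_cast hd₄
  have hNq : (N : ℚ) ≠ 0 := by exact_mod_cast hN.ne'
  have had : a₄ * d₄ = 2 * (e₁ + e₂) := by linarith
  have hadq : (a₄ : ℚ) * d₄ = 2 * (e₁ + e₂) := by exact_mod_cast had
  have ha₄q : (a₄ : ℚ) ^ 2 = 4 := by exact_mod_cast ha₄
  have h3 : (a₄ : ℚ) ^ 3 / d₄ = 8 / ((e₁ : ℚ) + e₂) := by
    rw [div_eq_div_iff hd₄q he₁₂q]
    have : (a₄ : ℚ) ^ 3 * ((e₁ : ℚ) + e₂) = (a₄ : ℚ) ^ 4 * d₄ / 2 := by
      have : (e₁ : ℚ) + e₂ = (a₄ : ℚ) * d₄ / 2 := by linarith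
      rw [this]; ring
    rw [this]
    have : (a₄ : ℚ) ^ 4 = 16 := by
      have : (a₄ : ℚ) ^ 4 = ((a₄ : ℚ) ^ 2) ^ 2 := by ring
      rw [this, ha₄q]; norm_num
    rw [this]; ring
  have h4 : (-2) / (e₁ : ℚ) + (-2) / (e₂ : ℚ) + 8 / ((e₁ : ℚ) + e₂) = 0 := by
    rw [h3] at hF1
    have : (-2) / (e₁ : ℚ) = 2 * ((-1) / (e₁ : ℚ)) - 0 := by ring
    linear_combination hF1 - hF2
  have h5 : ((e₁ : ℚ) - e₂) ^ 2 = 0 := by
    field_simp at h4
    linear_combination (-1 / 2 : ℚ) * h4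
  have h6 : (e₁ : ℚ) = e₂ := by
    have := pow_eq_zero_iff (two_ne_zero) |>.mp h5
    linarith
  have h7 : e₁ = e₂ := by exact_mod_cast h6
  subst h7
  have h8 : e₃ = -1 - 2 * e₁ := by linarith
  subst h8
  have hF3 : (N : ℚ) * ((e₁ : ℚ) + 1) ^ 2 = 16 * e₁ * (2 * e₁ + 1) := by
    push_cast at hF2 he₃q
    have he3' : (2 * (e₁ : ℚ) + 1) ≠ 0 := fun h => he₃q (by linarith)
    have e4 : (1 : ℚ) / (-1 - 2 * (e₁ : ℚ)) = -(1 / (2 * (e₁ : ℚ) + 1)) := by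
      rw [show (-1 - 2 * (e₁ : ℚ)) = -(2 * (e₁ : ℚ) + 1) by ring, one_div, one_div, inv_neg]
    rw [e4] at hF2
    have e5 : (32 : ℚ) / N = 2 * ((e₁ : ℚ) + 1) ^ 2 / (e₁ * (2 * e₁ + 1)) := by
      rw [← hF2]
      exact aux_frac (e₁ : ℚ) (2 * (e₁ : ℚ) + 1) he₁q he3' rfl
    rw [div_eq_div_iff hNq (mul_ne_zero he₁q he3')] at e5
    linear_combination (-1 / 2 : ℚ) * e5
  have hF4 : N * (e₁ + 1) ^ 2 = 16 * (e₁ * (2 * e₁ + 1)) := by
    have : ((N * (e₁ + 1) ^ 2 : ℤ) : ℚ) = ((16 * (e₁ * (2 * e₁ + 1)) : ℤ) : ℚ) := by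
      push_cast; rw [hF3]; ring
    exact_mod_cast this
  have hcop : IsCoprime ((e₁ + 1) ^ 2) (e₁ * (2 * e₁ + 1)) := by
    apply IsCoprime.pow_left
    apply IsCoprime.mul_right
    · exact ⟨1, -1, by ring⟩
    · exact ⟨2, -1, by ring⟩
  have hdvd : (e₁ + 1) ^ 2 ∣ 16 := by
    have : (e₁ + 1) ^ 2 ∣ 16 * (e₁ * (2 * e₁ + 1)) := ⟨N, by rw [← hF4]; ring⟩
    exact hcop.dvd_of_dvd_mul_right this
  have hle : (e₁ + 1) ^ 2 ≤ 16 := Int.le_of_dvd (by norm_num) hdvd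
  have h9 : e₁ + 1 ≤ 4 := by nlinarith
  have h10 : -4 ≤ e₁ + 1 := by nlinarith
  have hcases : e₁ = 3 ∨ e₁ = -5 := by omega
  rcases hcases with rfl | rfl
  · left; norm_num at hF4; omega
  · right; norm_num at hF4; omega

/-- A sum over a finite type whose support is within five given indices. -/
lemma sum_five {I : Type*} [Fintype I] [DecidableEq I] {R : Type*} [AddCommMonoid R]
    (i₀ x y z w : I) (h0x : i₀ ≠ x) (h0y : i₀ ≠ y) (h0z : i₀ ≠ z) (h0w : i₀ ≠ w)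
    (hxy : x ≠ y) (hxz : x ≠ z) (hxw : x ≠ w) (hyz : y ≠ z) (hyw : y ≠ w) (hzw : z ≠ w)
    (f : I → R) (hf : ∀ i, i ≠ i₀ → i ≠ x → i ≠ y → i ≠ z → i ≠ w → f i = 0) :
    ∑ i, f i = f i₀ + (f x + (f y + (f z + f w))) := by
  have hsub : ({i₀, x, y, z, w} : Finset I) ⊆ Finset.univ := Finset.subset_univ _
  rw [← Finset.sum_subset hsub]
  · rw [Finset.sum_insert (by simp [h0x, h0y, h0z, h0w]),
      Finset.sum_insert (by simp [hxy, hxz, hxw]),
      Finset.sum_insert (by simp [hyz, hyw]),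
      Finset.sum_insert (by simp [hzw]), Finset.sum_singleton]
  · intro i _ hi
    simp only [Finset.mem_insert, Finset.mem_singleton, not_or] at hi
    exact hf i hi.1 hi.2.1 hi.2.2.1 hi.2.2.2.1 hi.2.2.2.2

/-- Values of a single term where `a² = b² = 1`. -/
lemma term_lemma (a b d : ℤ) (hd : d ≠ 0) (ha : a ^ 2 = 1) (hb : b ^ 2 = 1) :
    (a : ℚ) ^ 3 / d = ((a * b : ℤ) : ℚ) / ((b * d : ℤ) : ℚ) ∧
      (a : ℚ) ^ 2 * b / d = 1 / ((b * d : ℤ) : ℚ) := by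
  have hdq : (d : ℚ) ≠ 0 := by exact_mod_cast hd
  have haq : (a : ℚ) ^ 2 = 1 := by exact_mod_cast ha
  have hbq : (b : ℚ) ^ 2 = 1 := by exact_mod_cast hb
  have hb0 : (b : ℚ) ≠ 0 := by
    intro h; rw [h] at hbq; norm_num at hbq
  push_cast
  constructor
  · rw [div_eq_div_iff hdq (mul_ne_zero hb0 hdq)]
    linear_combination (a : ℚ) * b * d * haq
  · rw [haq, div_eq_div_iff hdq (mul_ne_zero hb0 hdq)]
    linear_combination (d : ℚ) * hbq

lemma sq_le_three {x : ℤ} (h : x ^ 2 ≤ 3) (hne : x ≠ 0) : x = 1 ∨ x = -1 := by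
  have h2 : x ≤ 1 := by nlinarith
  have h3 : -1 ≤ x := by nlinarith
  omega

lemma sq_le_seven {x y : ℤ} (h : x ^ 2 ≤ 7) (hy : y = 1 ∨ y = -1) (hk : ∃ k, x - y = 2 * k) :
    x = 1 ∨ x = -1 := by
  obtain ⟨k, hk⟩ := hk
  have h2 : x ≤ 2 := by nlinarith
  have h3 : -2 ≤ x := by nlinarith
  omega

lemma sq_eq_one_cases {u : ℤ} (hu : u ^ 2 = 1) : u = 1 ∨ u = -1 :=
  sq_le_three (by omega) (by rintro rfl; norm_num at hu)

lemma mul_cases {u v : ℤ} (hu : u ^ 2 = 1) (hv : v ^ 2 = 1) : u * v = 1 ∨ u * v = -1 := by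
  rcases sq_eq_one_cases hu with rfl | rfl <;> rcases sq_eq_one_cases hv with rfl | rfl <;> simp

lemma four_le_sq {x k : ℤ} (hk : x = 2 * k) (hx : x ≠ 0) : 4 ≤ x ^ 2 := by
  have hk0 : k ≠ 0 := by
    rintro rfl
    exact hx (by simpa using hk)
  rw [hk]
  have : 1 ≤ k ^ 2 := by
    have : 0 < k ^ 2 := by positivity
    omega
  nlinarith

lemma mod_term {a b d k : ℤ} (h1 : a * b = -1) (h2 : b ^ 2 = 1) (hk : d + a - 2 * b = 8 * k) :
    b * d = 8 * (k * b) + 3 := by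
  linear_combination b * hk - h1 + 2 * h2

set_option maxHeartbeats 1000000 in
theorem sum_arith {I : Type*} [Fintype I] [DecidableEq I] (a b d : I → ℤ) (i₀ : I) (N : ℤ)
    (hN : 0 < N) (h0a : a i₀ = 1) (h0b : b i₀ = 1) (h0d : d i₀ = 1)
    (hd : ∀ i, 0 < d i) (hab : ∀ i, ∃ k, a i - b i = 2 * k)
    (h8 : ∀ i, ∃ k, d i + a i - 2 * b i = 8 * k)
    (O1 : ∑ i, a i ^ 2 = 8) (O2 : ∑ i, b i ^ 2 = 4) (O3 : ∑ i, a i * b i = 0)
    (O4 : ∑ i, b i * d i = 0) (O5 : ∑ i, a i * d i = 0)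
    (F1 : ∑ i, (a i : ℚ) ^ 3 / (d i : ℚ) = 32 / (N : ℚ))
    (F2 : ∑ i, (a i : ℚ) ^ 2 * (b i : ℚ) / (d i : ℚ) = 32 / (N : ℚ)) : N = 21 ∨ N = 45 := by
  classical
  set U := Finset.univ.erase i₀ with hU
  have hsplit : ∀ f : I → ℤ, ∑ i, f i = f i₀ + ∑ i ∈ U, f i := fun f =>
    (Finset.add_sum_erase _ f (Finset.mem_univ i₀)).symm
  set B := U.filter (fun i => b i ≠ 0) with hB
  set C := U.filter (fun i => b i = 0 ∧ a i ≠ 0) with hC
  have hU3 : ∑ i ∈ U, b i ^ 2 = 3 := by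
    have := hsplit (fun i => b i ^ 2)
    simp only [h0b] at this
    omega
  have hU7 : ∑ i ∈ U, a i ^ 2 = 7 := by
    have := hsplit (fun i => a i ^ 2)
    simp only [h0a] at this
    omega
  have hB3 : ∑ i ∈ B, b i ^ 2 = 3 := by
    rw [hB, Finset.sum_filter_of_ne]
    · exact hU3
    · intro i _ h hb
      apply h
      rw [hb]; norm_num
  have hble : ∀ i ∈ U, b i ^ 2 ≤ 3 := fun i hi => by
    rw [← hU3]
    exact Finset.single_le_sum (f := fun i => b i ^ 2) (fun _ _ => sq_nonneg _) hi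
  have hale : ∀ i ∈ U, a i ^ 2 ≤ 7 := fun i hi => by
    rw [← hU7]
    exact Finset.single_le_sum (f := fun i => a i ^ 2) (fun _ _ => sq_nonneg _) hi
  have hb1 : ∀ i ∈ B, b i ^ 2 = 1 := by
    intro i hi
    have hi' := Finset.mem_filter.mp hi
    have h1 := hble i hi'.1
    rcases sq_le_three h1 hi'.2 with h | h <;> rw [h] <;> norm_num
  have ha1 : ∀ i ∈ B, a i ^ 2 = 1 := by
    intro i hi
    have hi' := Finset.mem_filter.mp hi
    have h1 := hale i hi'.1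
    have h7 := sq_eq_one_cases (hb1 i hi)
    rcases sq_le_seven h1 h7 (hab i) with h | h <;> rw [h] <;> norm_num
  have hBcard : B.card = 3 := by
    have : ∑ i ∈ B, b i ^ 2 = ∑ i ∈ B, (1 : ℤ) := Finset.sum_congr rfl hb1
    rw [hB3, Finset.sum_const, nsmul_one] at this
    omega
  have hdisj : Disjoint B C := by
    rw [Finset.disjoint_left]
    intro i hi hi'
    exact (Finset.mem_filter.mp hi).2 (Finset.mem_filter.mp hi').2.1
  have hUBC : ∑ i ∈ B ∪ C, a i ^ 2 = 7 := by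
    rw [← hU7]
    apply Finset.sum_subset
    · intro i hi
      rcases Finset.mem_union.mp hi with h | h
      · exact (Finset.mem_filter.mp h).1
      · exact (Finset.mem_filter.mp h).1
    · intro i hi hi'
      by_contra hne
      have hane : a i ≠ 0 := by
        intro h; apply hne; rw [h]; norm_num
      apply hi'
      by_cases hb0 : b i = 0
      · exact Finset.mem_union_right _ (Finset.mem_filter.mpr ⟨hi, hb0, hane⟩)
      · exact Finset.mem_union_left _ (Finset.mem_filter.mpr ⟨hi, hb0⟩)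
  have hC4 : ∑ i ∈ C, a i ^ 2 = 4 := by
    rw [Finset.sum_union hdisj] at hUBC
    have : ∑ i ∈ B, a i ^ 2 = ∑ i ∈ B, (1 : ℤ) := Finset.sum_congr rfl ha1
    rw [this, Finset.sum_const, nsmul_one, hBcard] at hUBC
    push_cast at hUBC
    omega
  have ha4 : ∀ i ∈ C, 4 ≤ a i ^ 2 := by
    intro i hi
    have hi' := Finset.mem_filter.mp hi
    obtain ⟨k, hk⟩ := hab i
    rw [hi'.2.1, sub_zero] at hk
    exact four_le_sq hk hi'.2.2
  have hCcard : C.card = 1 := by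
    have h1 : (C.card : ℤ) * 4 ≤ 4 := by
      have := Finset.card_nsmul_le_sum C (fun i => a i ^ 2) 4 ha4
      rw [nsmul_eq_mul, hC4] at this
      exact this
    have h2 : C.card ≠ 0 := by
      intro h
      rw [Finset.card_eq_zero.mp h] at hC4
      simp at hC4
    omega
  obtain ⟨x, y, z, hxy, hxz, hyz, hBeq⟩ := Finset.card_eq_three.mp hBcard
  obtain ⟨w, hCeq⟩ := Finset.card_eq_one.mp hCcard
  have hxB : x ∈ B := by rw [hBeq]; simp
  have hyB : y ∈ B := by rw [hBeq]; simp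
  have hzB : z ∈ B := by rw [hBeq]; simp
  have hwC : w ∈ C := by rw [hCeq]; simp
  have hne0 : ∀ i ∈ U, i ≠ i₀ := fun i hi => (Finset.mem_erase.mp hi).1
  have h0x : i₀ ≠ x := (hne0 x (Finset.mem_filter.mp hxB).1).symm
  have h0y : i₀ ≠ y := (hne0 y (Finset.mem_filter.mp hyB).1).symm
  have h0z : i₀ ≠ z := (hne0 z (Finset.mem_filter.mp hzB).1).symm
  have h0w : i₀ ≠ w := (hne0 w (Finset.mem_filter.mp hwC).1).symm
  have hbw : b w = 0 := (Finset.mem_filter.mp hwC).2.1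
  have hawne : a w ≠ 0 := (Finset.mem_filter.mp hwC).2.2
  have hxw : x ≠ w := fun h => (Finset.mem_filter.mp hxB).2 (h ▸ hbw)
  have hyw : y ≠ w := fun h => (Finset.mem_filter.mp hyB).2 (h ▸ hbw)
  have hzw : z ≠ w := fun h => (Finset.mem_filter.mp hzB).2 (h ▸ hbw)
  have hout : ∀ i, i ≠ i₀ → i ≠ x → i ≠ y → i ≠ z → i ≠ w → a i = 0 ∧ b i = 0 := by
    intro i h0 h1 h2 h3 h4
    have hiU : i ∈ U := Finset.mem_erase.mpr ⟨h0, Finset.mem_univ _⟩
    have hbi : b i = 0 := by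
      by_contra hb
      have : i ∈ B := Finset.mem_filter.mpr ⟨hiU, hb⟩
      rw [hBeq] at this
      simp at this
      tauto
    refine ⟨?_, hbi⟩
    by_contra ha
    have : i ∈ C := Finset.mem_filter.mpr ⟨hiU, hbi, ha⟩
    rw [hCeq] at this
    simp at this
    tauto
  have S5 : ∀ f : I → ℤ, (∀ i, a i = 0 → b i = 0 → f i = 0) →
      ∑ i, f i = f i₀ + (f x + (f y + (f z + f w))) := fun f hf =>
    sum_five i₀ x y z w h0x h0y h0z h0w hxy hxz hxw hyz hyw hzw f fun i h0 h1 h2 h3 h4 =>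
      hf i (hout i h0 h1 h2 h3 h4).1 (hout i h0 h1 h2 h3 h4).2
  have S5q : ∀ f : I → ℚ, (∀ i, a i = 0 → b i = 0 → f i = 0) →
      ∑ i, f i = f i₀ + (f x + (f y + (f z + f w))) := fun f hf =>
    sum_five i₀ x y z w h0x h0y h0z h0w hxy hxz hxw hyz hyw hzw f fun i h0 h1 h2 h3 h4 =>
      hf i (hout i h0 h1 h2 h3 h4).1 (hout i h0 h1 h2 h3 h4).2
  rw [S5 (fun i => a i * b i) (fun i h _ => by simp [h])] at O3
  rw [S5 (fun i => b i * d i) (fun i _ h => by simp [h])] at O4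
  rw [S5 (fun i => a i * d i) (fun i h _ => by simp [h])] at O5
  rw [S5q (fun i => (a i : ℚ) ^ 3 / (d i : ℚ)) (fun i h _ => by simp [h])] at F1
  rw [S5q (fun i => (a i : ℚ) ^ 2 * (b i : ℚ) / (d i : ℚ)) (fun i h _ => by simp [h])] at F2
  simp only [h0a, h0b, h0d, hbw] at O3 O4 O5 F1 F2
  have hax := ha1 x hxB
  have hay := ha1 y hyB
  have haz := ha1 z hzB
  have hbx := hb1 x hxB
  have hby := hb1 y hyB
  have hbz := hb1 z hzB
  have haw2 : a w ^ 2 = 4 := by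
    rw [hCeq, Finset.sum_singleton] at hC4
    exact hC4
  obtain ⟨F1x, F2x⟩ := term_lemma (a x) (b x) (d x) (hd x).ne' hax hbx
  obtain ⟨F1y, F2y⟩ := term_lemma (a y) (b y) (d y) (hd y).ne' hay hby
  obtain ⟨F1z, F2z⟩ := term_lemma (a z) (b z) (d z) (hd z).ne' haz hbz
  rw [F1x, F1y, F1z] at F1
  rw [F2x, F2y, F2z] at F2
  have hadx : ∀ i, b i ^ 2 = 1 → a i * d i = (a i * b i) * (b i * d i) := by
    intro i h
    linear_combination (- a i * d i) * h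
  rw [hadx x hbx, hadx y hby, hadx z hbz] at O5
  have hne : ∀ i ∈ B, b i * d i ≠ 0 := by
    intro i hi
    exact mul_ne_zero (Finset.mem_filter.mp hi).2 (hd i).ne'
  simp only [Int.cast_one, mul_one, zero_mul, add_zero, mul_zero, Int.cast_zero, zero_div,
    div_one] at O3 O4 O5 F1 F2
  have hmodx : ∀ i, a i * b i = -1 → b i ^ 2 = 1 → ∃ k, b i * d i = 8 * k + 3 := by
    intro i h1 h2
    obtain ⟨k, hk⟩ := h8 i
    exact ⟨_, mod_term h1 h2 hk⟩
  have hd4 := (hd w).ne'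
  rcases mul_cases hax hbx with h1 | h1 <;> rcases mul_cases hay hby with h2 | h2 <;>
    rcases mul_cases haz hbz with h3 | h3
  · rw [h1, h2, h3] at O3; omega
  · rw [h1, h2, h3] at O3; omega
  · rw [h1, h2, h3] at O3; omega
  · rw [h1, h2, h3] at O5 F1
    exact final_arith (b y * d y) (b z * d z) (b x * d x) (a w) (d w) N hN (hmodx y h2 hby)
      (hmodx z h3 hbz) (by linarith) (by linarith) haw2 hd4 (hne x hxB)
      (by push_cast at F1 ⊢; linear_combination F1) (by push_cast at F2 ⊢; linear_combination F2)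
  · rw [h1, h2, h3] at O3; omega
  · rw [h1, h2, h3] at O5 F1
    exact final_arith (b x * d x) (b z * d z) (b y * d y) (a w) (d w) N hN (hmodx x h1 hbx)
      (hmodx z h3 hbz) (by linarith) (by linarith) haw2 hd4 (hne y hyB)
      (by push_cast at F1 ⊢; linear_combination F1) (by push_cast at F2 ⊢; linear_combination F2)
  · rw [h1, h2, h3] at O5 F1
    exact final_arith (b x * d x) (b y * d y) (b z * d z) (a w) (d w) N hN (hmodx x h1 hbx)
      (hmodx y h2 hby) (by linarith) (by linarith) haw2 hd4 (hne z hzB)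
      (by push_cast at F1 ⊢; linear_combination F1) (by push_cast at F2 ⊢; linear_combination F2)
  · rw [h1, h2, h3] at O3; omega

end Cfsg.Agent.Lib.Invol8.Arith
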