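import Cfsg.Agent.S0111
import Cfsg.Agent.Lib.Char.ClassProd
import Cfsg.Agent.Lib.Char.Linear
import Cfsg.Agent.Lib.Invol8.Arith
import Mathlib

/-!
# Groups with an involution whose centraliser is dihedral of order 8

If `G` has no subgroup of index `2` and `C_G(t) ≅ D₈` for an involution `t`, then `|G| ∈ {168, 360}`.
-/

set_option autoImplicit false
set_option linter.style.haveILetI false
set_option linter.unusedVariables false
set_option linter.unusedSectionVars false
set_option linter.unnecessarySeqFocus false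

namespace Cfsg.Agent.Lib.Invol8.Main

open DihedralGroup Cfsg Cfsg.Agent.Lib.Char.Basic Cfsg.Agent.Lib.Char.Ortho
  Cfsg.Agent.Lib.Char.Complete Cfsg.Agent.Lib.Char.ClassProd Cfsg.Agent.Lib.Char.Linear
open scoped ComplexConjugate

/-! ### Facts on `D₈` -/

abbrev D8 := DihedralGroup 4

lemma central_D8 : ∀ c : D8, (∀ x : D8, x * c = c * x) → c = 1 ∨ c = r 2 := by decide

/-- The sign homomorphism `r ↦ 1`, `s ↦ -1`. -/
def sgn₂ : D8 →* ℤˣ := MonoidHom.mk' (fun x => match x with | r _ => 1 | sr _ => -1) (by decide)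

/-- The sign homomorphism `r ↦ -1`, `s ↦ 1`, `sr ↦ -1`. -/
def sgn₃ : D8 →* ℤˣ :=
  MonoidHom.mk' (fun x => match x with
    | r i => if i.val % 2 = 0 then 1 else -1
    | sr i => if i.val % 2 = 0 then 1 else -1) (by decide)

/-- Composite to `ℂˣ`. -/
noncomputable def toC : ℤˣ →* ℂˣ := Units.map (Int.castRingHom ℂ).toMonoidHom

lemma sum_D8 (f : D8 → ℂ) :
    ∑ g : D8, f g = f (r 0) + f (r 1) + f (r 2) + f (r 3) + f (sr 0) + f (sr 1) + f (sr 2) + f (sr 3) := by
  have : (Finset.univ : Finset D8) =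
      {r 0, r 1, r 2, r 3, sr 0, sr 1, sr 2, sr 3} := by decide
  rw [this]
  rw [Finset.sum_insert (by decide), Finset.sum_insert (by decide), Finset.sum_insert (by decide),
    Finset.sum_insert (by decide), Finset.sum_insert (by decide), Finset.sum_insert (by decide),
    Finset.sum_insert (by decide), Finset.sum_singleton]
  ring

lemma card_D8 : Nat.card D8 = 8 := by
  rw [DihedralGroup.nat_card]

theorem D8_integrality {ψ : D8 → ℂ} (hψ : IsCharacter D8 ψ) (a b d : ℂ) (h1 : ψ (r 0) = d)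
    (hr1 : ψ (r 1) = b) (hr3 : ψ (r 3) = b) (hr2 : ψ (r 2) = a) (hs : ∀ i, ψ (sr i) = a) :
    ∃ n₁ n₂ n₃ : ℕ, d + 5 * a + 2 * b = 8 * n₁ ∧ d - 3 * a + 2 * b = 8 * n₂ ∧
      d + a - 2 * b = 8 * n₃ := by
  have hone : IsCharacter D8 (fun _ => (1 : ℂ)) := isCharacter_one
  have h2 : IsCharacter D8 (fun g => ((toC.comp sgn₂ g : ℂˣ) : ℂ)) :=
    isCharacter_of_isIrrCharacter (isIrrCharacter_of_hom _)
  have h3 : IsCharacter D8 (fun g => ((toC.comp sgn₃ g : ℂˣ) : ℂ)) :=
    isCharacter_of_isIrrCharacter (isIrrCharacter_of_hom _)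
  obtain ⟨n₁, hn₁⟩ := exists_nat_classInner hψ hone
  obtain ⟨n₂, hn₂⟩ := exists_nat_classInner hψ h2
  obtain ⟨n₃, hn₃⟩ := exists_nat_classInner hψ h3
  refine ⟨n₁, n₂, n₃, ?_, ?_, ?_⟩
  · rw [classInner_def, sum_D8, card_D8] at hn₁
    simp only [h1, hr1, hr2, hr3, hs, map_one, mul_one] at hn₁
    rw [← hn₁]
    push_cast
    ring
  · rw [classInner_def, sum_D8, card_D8] at hn₂
    have hv : ∀ g : D8, (((toC.comp sgn₂ g : ℂˣ) : ℂ)) = ((sgn₂ g : ℤ) : ℂ) := fun g => rfl
    simp only [hv] at hn₂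
    have e1 : ∀ i, ((sgn₂ (r i) : ℤ) : ℂ) = 1 := fun i => by
      simp [sgn₂]
    have e2 : ∀ i, ((sgn₂ (sr i) : ℤ) : ℂ) = -1 := fun i => by
      simp [sgn₂]
    simp only [e1, e2, h1, hr1, hr2, hr3, hs, map_one, map_neg, mul_one] at hn₂
    rw [← hn₂]
    push_cast
    ring
  · rw [classInner_def, sum_D8, card_D8] at hn₃
    have hv : ∀ g : D8, (((toC.comp sgn₃ g : ℂˣ) : ℂ)) = ((sgn₃ g : ℤ) : ℂ) := fun g => rfl
    simp only [hv] at hn₃
    have e00 : sgn₃ (r 0) = 1 := by decide
    have e01 : sgn₃ (r 1) = -1 := by decide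
    have e02 : sgn₃ (r 2) = 1 := by decide
    have e03 : sgn₃ (r 3) = -1 := by decide
    have e10 : sgn₃ (sr 0) = 1 := by decide
    have e11 : sgn₃ (sr 1) = -1 := by decide
    have e12 : sgn₃ (sr 2) = 1 := by decide
    have e13 : sgn₃ (sr 3) = -1 := by decide
    simp only [e00, e01, e02, e03, e10, e11, e12, e13, h1, hr1, hr2, hr3, hs, Units.val_one,
      Units.val_neg, Int.cast_one, Int.cast_neg, map_one, map_neg, mul_one] at hn₃
    rw [← hn₃]
    push_cast
    ring

/-! ### The embedding of `D₈` -/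

section Setup

variable {G : Type*} [Group G] [Finite G] (t : G)
  (e : Subgroup.centralizer ({t} : Set G) ≃* DihedralGroup 4)

/-- The embedding of `D₈` in `G` with image `C_G(t)`. -/
noncomputable def iot : D8 →* G :=
  (Subgroup.centralizer ({t} : Set G)).subtype.comp e.symm.toMonoidHom

lemma iot_inj : Function.Injective (iot t e) := by
  intro x y h
  exact e.symm.injective (Subtype.val_injective h)

lemma iot_comm (c : D8) : iot t e c * t = t * iot t e c := by
  have h := (e.symm c).2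
  rw [Subgroup.mem_centralizer_singleton_iff] at h
  exact h

lemma iot_surj {u : G} (hu : u * t = t * u) : ∃ c, iot t e c = u := by
  have hm : u ∈ Subgroup.centralizer ({t} : Set G) := by
    rw [Subgroup.mem_centralizer_singleton_iff]; exact hu
  refine ⟨e ⟨u, hm⟩, ?_⟩
  simp [iot]

include e in
lemma card_cent : Nat.card (Subgroup.centralizer ({t} : Set G)) = 8 := by
  rw [Nat.card_congr e.toEquiv, card_D8]

lemma iot_r2 (ht : orderOf t = 2) : iot t e (r 2) = t := by
  have hm : t ∈ Subgroup.centralizer ({t} : Set G) := by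
    rw [Subgroup.mem_centralizer_singleton_iff]
  have hc : ∀ x : D8, x * e ⟨t, hm⟩ = e ⟨t, hm⟩ * x := by
    intro x
    obtain ⟨y, rfl⟩ := e.surjective x
    rw [← map_mul, ← map_mul]
    congr 1
    apply Subtype.ext
    have h := y.2
    rw [Subgroup.mem_centralizer_singleton_iff] at h
    exact h
  have hiot : iot t e (e ⟨t, hm⟩) = t := by simp [iot]
  rcases central_D8 _ hc with h | h
  · rw [h, map_one] at hiot
    rw [← hiot] at ht
    simp at ht
  · rw [h] at hiot
    exact hiot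

include e in
/-- `C_G(t)` is a Sylow `2`-subgroup. -/
lemma exists_sylow (ht : orderOf t = 2) :
    ∃ P : Sylow 2 G, (P : Subgroup G) = Subgroup.centralizer ({t} : Set G) := by
  have hD : IsPGroup 2 (Subgroup.centralizer ({t} : Set G)) :=
    IsPGroup.of_card (n := 3) (by rw [card_cent t e]; norm_num)
  obtain ⟨P, hP⟩ := hD.exists_le_sylow
  refine ⟨P, le_antisymm ?_ hP⟩
  have htP : t ∈ (P : Subgroup G) := hP (by rw [Subgroup.mem_centralizer_singleton_iff])
  have hne : Nontrivial (P : Subgroup G) := ⟨⟨⟨t, htP⟩, 1, by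
    intro h
    have : t = 1 := congrArg Subtype.val h
    rw [this] at ht
    simp at ht⟩⟩
  haveI hnt : Nontrivial (Subgroup.center (P : Subgroup G)) := P.isPGroup'.center_nontrivial
  obtain ⟨⟨z, hz⟩, hz1⟩ := exists_ne (1 : Subgroup.center (P : Subgroup G))
  have hzc : ∀ y : (P : Subgroup G), y * z = z * y := fun y =>
    (Subgroup.mem_center_iff.mp hz y)
  have hzt : (z : G) * t = t * z := (congrArg Subtype.val (hzc ⟨t, htP⟩)).symm
  obtain ⟨c, hc⟩ := iot_surj t e hzt
  have hcc : ∀ x : D8, x * c = c * x := by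
    intro x
    apply iot_inj t e
    rw [map_mul, map_mul, hc]
    have hxm : iot t e x ∈ (P : Subgroup G) := hP (by
      rw [Subgroup.mem_centralizer_singleton_iff]; exact iot_comm t e x)
    exact congrArg Subtype.val (hzc ⟨_, hxm⟩)
  have hzt2 : (z : G) = t := by
    rcases central_D8 _ hcc with h | h
    · exfalso
      rw [h, map_one] at hc
      apply hz1
      apply Subtype.ext
      apply Subtype.ext
      exact hc.symm
    · rw [h, iot_r2 t e ht] at hc
      exact hc.symm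
  intro y hy
  rw [Subgroup.mem_centralizer_singleton_iff]
  have : y * (z : G) = z * y := congrArg Subtype.val (hzc ⟨y, hy⟩)
  rw [hzt2] at this
  exact this

/-- The rotation subgroup of `D₈`. -/
def rotD8 : Subgroup D8 := sgn₂.ker

lemma mem_rotD8 (x : D8) : x ∈ rotD8 ↔ ∃ i, x = r i := by
  rw [rotD8, MonoidHom.mem_ker]
  cases x with
  | r i => exact ⟨fun _ => ⟨i, rfl⟩, fun _ => rfl⟩
  | sr i =>
    constructor
    · intro h; exact absurd h (by decide +revert)
    · rintro ⟨j, hj⟩; cases hj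

lemma card_rotD8 : Nat.card rotD8 = 4 := by
  have hbij : Function.Bijective (fun i : ZMod 4 => (⟨r i, (mem_rotD8 _).mpr ⟨i, rfl⟩⟩ : rotD8)) := by
    constructor
    · intro i j h
      have := congrArg Subtype.val h
      simpa using this
    · rintro ⟨x, hx⟩
      obtain ⟨i, rfl⟩ := (mem_rotD8 _).mp hx
      exact ⟨i, rfl⟩
  rw [← Nat.card_congr (Equiv.ofBijective _ hbij), Nat.card_zmod]

include e in
/-- All the noncentral involutions of `C_G(t)` are conjugate to `t`. -/
lemma conj_sr (ht : orderOf t = 2) (hidx : ∀ H : Subgroup G, H.index ≠ 2) (i : ZMod 4) :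
    IsConj t (iot t e (sr i)) := by
  obtain ⟨P, hP⟩ := exists_sylow t e ht
  set Q := rotD8.map (iot t e) with hQ
  have hrange : ∀ c, iot t e c ∈ (P : Subgroup G) := fun c => by
    rw [hP, Subgroup.mem_centralizer_singleton_iff]
    exact iot_comm t e c
  have hQP : Q ≤ (P : Subgroup G) := by
    rintro _ ⟨c, -, rfl⟩
    exact hrange c
  have hcardQ : Nat.card Q = 4 := by
    rw [hQ, Subgroup.card_map_of_injective (iot_inj t e), card_rotD8]
  have hrel : Q.relIndex (P : Subgroup G) = 2 := by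
    have h1 := Subgroup.card_mul_index (Q.subgroupOf (P : Subgroup G))
    have h2 : Nat.card (Q.subgroupOf (P : Subgroup G)) = Nat.card Q :=
      Nat.card_congr (Subgroup.subgroupOfEquivOfLe hQP).toEquiv
    rw [h2, hcardQ, hP, card_cent t e] at h1
    rw [Subgroup.relIndex]
    rw [hP]
    omega
  have hu : orderOf (iot t e (sr i)) = 2 := by
    rw [orderOf_injective _ (iot_inj t e), DihedralGroup.orderOf_sr]
  have huQ : iot t e (sr i) ∉ Q := by
    rintro ⟨c, hc, hce⟩
    have := iot_inj t e hce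
    obtain ⟨j, hj⟩ := (mem_rotD8 _).mp hc
    rw [hj] at this
    cases this
  rcases Cfsg.Agent.S0111.result P Q hQP hrel _ hu (hrange _) huQ with ⟨M, -, hM, -⟩ | ⟨g, hg⟩
  · exact absurd hM (hidx M)
  · obtain ⟨c, hc, hce⟩ := hg
    obtain ⟨j, rfl⟩ := (mem_rotD8 _).mp hc
    have hord : (r j : D8) * r j = 1 := by
      apply iot_inj t e
      rw [map_mul, hce, map_one]
      have : iot t e (sr i) * iot t e (sr i) = 1 := by
        rw [← map_mul]; simp
      calc g * iot t e (sr i) * g⁻¹ * (g * iot t e (sr i) * g⁻¹)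
          = g * (iot t e (sr i) * iot t e (sr i)) * g⁻¹ := by group
        _ = 1 := by rw [this]; group
    have hne : (r j : D8) ≠ 1 := by
      rintro h
      rw [h, map_one] at hce
      have : iot t e (sr i) = 1 := conj_eq_one_iff.mp hce.symm
      rw [this] at hu
      simp at hu
    have hrj : ∀ j : ZMod 4, (r j : D8) * r j = 1 → (r j : D8) ≠ 1 → (r j : D8) = r 2 := by decide
    rw [hrj j hord hne, iot_r2 t e ht] at hce
    rw [isConj_iff]
    refine ⟨g⁻¹, ?_⟩
    generalize iot t e (sr i) = w at hce ⊢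
    rw [hce]
    group

/-- `C_G(x) = ⟨x⟩` has order `4` for `x = ι (r 1)`. -/
lemma card_cent_x (ht : orderOf t = 2) :
    Nat.card (Subgroup.centralizer ({iot t e (r 1)} : Set G)) = 4 := by
  have hEq : Subgroup.centralizer ({iot t e (r 1)} : Set G) = rotD8.map (iot t e) := by
    ext u
    rw [Subgroup.mem_centralizer_singleton_iff]
    constructor
    · intro hu
      have h2 : u * t = t * u := by
        rw [← iot_r2 t e ht]
        have : (r 2 : D8) = r 1 * r 1 := by decide
        rw [this, map_mul]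
        calc u * (iot t e (r 1) * iot t e (r 1)) = (u * iot t e (r 1)) * iot t e (r 1) := by group
          _ = (iot t e (r 1) * u) * iot t e (r 1) := by rw [hu]
          _ = iot t e (r 1) * (u * iot t e (r 1)) := by group
          _ = iot t e (r 1) * (iot t e (r 1) * u) := by rw [hu]
          _ = _ := by group
      obtain ⟨c, rfl⟩ := iot_surj t e h2
      rw [← map_mul, ← map_mul] at hu
      have h3 := iot_inj t e hu
      have key : ∀ c : D8, c * r 1 = r 1 * c → ∃ i, c = r i := by decide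
      exact ⟨c, (mem_rotD8 c).mpr (key c h3), rfl⟩
    · rintro ⟨c, hc, rfl⟩
      obtain ⟨i, rfl⟩ := (mem_rotD8 _).mp hc
      rw [← map_mul, ← map_mul]
      congr 1
      have key : ∀ i : ZMod 4, (r i : D8) * r 1 = r 1 * r i := by decide
      exact key i
  rw [hEq, Subgroup.card_map_of_injective (iot_inj t e), card_rotD8]

include e in
/-- The values of an irreducible character on `t`, `x`, `1` are integers satisfying the
congruences from restriction to `C_G(t)`. -/
lemma exists_int_values (ht : orderOf t = 2) (hidx : ∀ H : Subgroup G, H.index ≠ 2)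
    {χ : G → ℂ} (hχ : IsIrrCharacter G χ) :
    ∃ A B D : ℤ, χ t = A ∧ χ (iot t e (r 1)) = B ∧ χ 1 = D ∧ 0 < D ∧ (∃ k, A - B = 2 * k) ∧
      ∃ k, D + A - 2 * B = 8 * k := by
  have hcf := isClassFunction_iff_isConj.mp (isClassFunction_of_isIrrCharacter hχ)
  have hψ : IsCharacter D8 (χ ∘ iot t e) := isCharacter_comp _ (isCharacter_of_isIrrCharacter hχ)
  have h1 : (χ ∘ iot t e) (r 0) = χ 1 := by
    have : (r 0 : D8) = 1 := rfl
    simp [this]
  have hr3 : (χ ∘ iot t e) (r 3) = χ (iot t e (r 1)) := by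
    apply hcf
    rw [isConj_iff]
    refine ⟨iot t e (sr 0), ?_⟩
    rw [← map_inv, ← map_mul, ← map_mul]
    congr 1
  have hr2 : (χ ∘ iot t e) (r 2) = χ t := by
    simp [iot_r2 t e ht]
  have hs : ∀ i, (χ ∘ iot t e) (sr i) = χ t := fun i =>
    (hcf _ _ (conj_sr t e ht hidx i)).symm
  obtain ⟨n₁, n₂, n₃, h₁, h₂, h₃⟩ := D8_integrality hψ _ _ _ h1 rfl hr3 hr2 hs
  obtain ⟨n, hn, hdn⟩ := exists_pos_deg_of_isIrr hχ
  have hcomp : (χ ∘ iot t e) (r 1) = χ (iot t e (r 1)) := rfl
  rw [hcomp] at h₁ h₂ h₃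
  have ha : χ t = ((n₁ : ℤ) - (n₂ : ℤ) : ℤ) := by
    push_cast
    linear_combination (1 / 8 : ℂ) * h₁ - (1 / 8 : ℂ) * h₂
  have hb : χ (iot t e (r 1)) = (2 * ((n₁ : ℤ) - n₃) - ((n₁ : ℤ) - n₂) : ℤ) := by
    push_cast
    linear_combination (1 / 4 : ℂ) * h₁ - (1 / 4 : ℂ) * h₃ - (1 / 8 : ℂ) * h₁ + (1 / 8 : ℂ) * h₂
  refine ⟨_, _, n, ha, hb, by simpa using hdn, by exact_mod_cast hn, ?_, ?_⟩
  · exact ⟨((n₁ : ℤ) - n₂) - (n₁ - n₃), by ring⟩
  · refine ⟨n₃, ?_⟩
    have : ((n : ℤ) : ℂ) + (((n₁ : ℤ) - (n₂ : ℤ) : ℤ) : ℂ) -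
        2 * ((2 * ((n₁ : ℤ) - n₃) - ((n₁ : ℤ) - n₂) : ℤ) : ℂ) = ((8 * (n₃ : ℤ) : ℤ) : ℂ) := by
      rw [← ha, ← hb]
      push_cast
      rw [← hdn]
      exact h₃
    exact_mod_cast this

include e in
lemma order_two_of_conj (ht : orderOf t = 2) {u : G} (hu : IsConj t u) : u * u = 1 ∧ u ≠ 1 := by
  obtain ⟨g, rfl⟩ := isConj_iff.mp hu
  have htt : t * t = 1 := by
    rw [← sq, ← ht, pow_orderOf_eq_one]
  constructor
  · calc g * t * g⁻¹ * (g * t * g⁻¹) = g * (t * t) * g⁻¹ := by group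
      _ = 1 := by rw [htt]; group
  · intro h
    have : t = 1 := conj_eq_one_iff.mp h
    rw [this] at ht
    simp at ht

/-- The number of ways to write `ι c₀` (`c₀ = r 1` or `r 2`) as a product of two conjugates of
`t` is `4`. -/
lemma card_count (ht : orderOf t = 2) (hidx : ∀ H : Subgroup G, H.index ≠ 2) (c₀ : D8)
    (hc₀ : c₀ = r 1 ∨ c₀ = r 2) :
    Nat.card {p : G × G // IsConj t p.1 ∧ IsConj t p.2 ∧ p.1 * p.2 = iot t e c₀} = 4 := by
  have hsr : ∀ i : ZMod 4, ∃ j, (sr i : D8)⁻¹ * c₀ = sr j := by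
    rcases hc₀ with rfl | rfl <;> decide
  let φ : ZMod 4 → {p : G × G // IsConj t p.1 ∧ IsConj t p.2 ∧ p.1 * p.2 = iot t e c₀} :=
    fun i => ⟨(iot t e (sr i), iot t e ((sr i)⁻¹ * c₀)), conj_sr t e ht hidx i, by
      obtain ⟨j, hj⟩ := hsr i
      show IsConj t (iot t e ((sr i)⁻¹ * c₀))
      rw [hj]
      exact conj_sr t e ht hidx j, by
      show iot t e (sr i) * iot t e ((sr i)⁻¹ * c₀) = _
      rw [← map_mul, mul_inv_cancel_left]⟩
  have hbij : Function.Bijective φ := by
    constructor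
    · intro i j h
      have h1 : iot t e (sr i) = iot t e (sr j) := congrArg (fun p => p.1.1) h
      have h2 := iot_inj t e h1
      simpa using h2
    · rintro ⟨⟨u, v⟩, hu, hv, huv⟩
      obtain ⟨hu1, hu2⟩ := order_two_of_conj t e ht hu
      obtain ⟨hv1, hv2⟩ := order_two_of_conj t e ht hv
      simp only at hu1 hu2 hv1 hv2 huv
      set c := iot t e c₀ with hc
      have hinv : u * c = c⁻¹ * u := by
        rw [← huv]
        have hui : u⁻¹ = u := inv_eq_of_mul_eq_one_right hu1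
        have hvi : v⁻¹ = v := inv_eq_of_mul_eq_one_right hv1
        rw [mul_inv_rev, hui, hvi, ← mul_assoc, hu1, one_mul, mul_assoc, hu1, mul_one]
      have hcomm : u * t = t * u := by
        rw [← iot_r2 t e ht]
        rcases hc₀ with rfl | rfl
        · have : (r 2 : D8) = r 1 * r 1 := by decide
          rw [this, map_mul, ← hc]
          have hcc : c * c = (c * c)⁻¹ := by
            rw [hc, ← map_mul, ← map_inv]
            exact congrArg _ (by decide)
          calc u * (c * c) = (u * c) * c := by group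
            _ = (c⁻¹ * u) * c := by rw [hinv]
            _ = c⁻¹ * (u * c) := by group
            _ = c⁻¹ * (c⁻¹ * u) := by rw [hinv]
            _ = (c * c)⁻¹ * u := by group
            _ = (c * c) * u := by rw [← hcc]
        · have hcc : c = c⁻¹ := by
            rw [hc, ← map_inv]
            exact congrArg _ (by decide)
          rw [← hc]
          calc u * c = c⁻¹ * u := hinv
            _ = c * u := by rw [← hcc]
      obtain ⟨u₀, rfl⟩ := iot_surj t e hcomm
      have hv' : v = iot t e (u₀⁻¹ * c₀) := by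
        rw [map_mul, map_inv, ← hc, ← huv]
        group
      subst hv'
      have h1 : u₀ * u₀ = 1 := by
        apply iot_inj t e
        rw [map_mul, map_one, hu1]
      have h2 : u₀ ≠ 1 := by
        rintro rfl
        exact hu2 (map_one _)
      have h3 : (u₀⁻¹ * c₀) * (u₀⁻¹ * c₀) = 1 := by
        apply iot_inj t e
        rw [map_mul, map_one, hv1]
      have h4 : u₀⁻¹ * c₀ ≠ 1 := by
        intro h
        apply hv2
        rw [h, map_one]
      have key : ∃ i, u₀ = sr i := by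
        rcases hc₀ with rfl | rfl
        · have : ∀ u₀ : D8, u₀ * u₀ = 1 → u₀ ≠ 1 → (u₀⁻¹ * r 1) * (u₀⁻¹ * r 1) = 1 →
              u₀⁻¹ * r 1 ≠ 1 → ∃ i, u₀ = sr i := by decide
          exact this u₀ h1 h2 h3 h4
        · have : ∀ u₀ : D8, u₀ * u₀ = 1 → u₀ ≠ 1 → (u₀⁻¹ * r 2) * (u₀⁻¹ * r 2) = 1 →
              u₀⁻¹ * r 2 ≠ 1 → ∃ i, u₀ = sr i := by decide
          exact this u₀ h1 h2 h3 h4
      obtain ⟨i, rfl⟩ := key
      exact ⟨i, rfl⟩
  rw [← Nat.card_congr (Equiv.ofBijective φ hbij), Nat.card_zmod]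

include e in
/-- **Main theorem.** A finite group without subgroups of index two and with an involution whose
centraliser is dihedral of order eight has order `168` or `360`. -/
theorem card_eq_168_or_360 (ht : orderOf t = 2) (hidx : ∀ H : Subgroup G, H.index ≠ 2) :
    Nat.card G = 168 ∨ Nat.card G = 360 := by
  classical
  letI : Fintype G := Fintype.ofFinite G
  haveI := finite_irrCharacter (G := G)
  letI : Fintype (IrrCharacter G) := Fintype.ofFinite _
  set x := iot t e (r 1) with hx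
  have hvals := fun χ : IrrCharacter G => exists_int_values t e ht hidx χ.2
  choose a b d ha hb hd hdpos hab h8 using hvals
  let i₀ : IrrCharacter G := ⟨fun _ => 1, isIrrCharacter_of_deg_one isCharacter_one rfl⟩
  have h0a : a i₀ = 1 := by
    have : (1 : ℂ) = (a i₀ : ℂ) := ha i₀
    exact_mod_cast this.symm
  have h0b : b i₀ = 1 := by
    have : (1 : ℂ) = (b i₀ : ℂ) := hb i₀
    exact_mod_cast this.symm
  have h0d : d i₀ = 1 := by
    have : (1 : ℂ) = (d i₀ : ℂ) := hd i₀
    exact_mod_cast this.symm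
  have hsum0 : ∀ (g h : G) (f f' : IrrCharacter G → ℤ), (∀ χ : IrrCharacter G, (χ : G → ℂ) g = f χ) →
      (∀ χ : IrrCharacter G, (χ : G → ℂ) h = f' χ) →
      ((∑ χ, f χ * f' χ : ℤ) : ℂ) =
        ∑ χ : IrrCharacter G, (χ : G → ℂ) g * conj ((χ : G → ℂ) h) := by
    intro g h f f' hf hf'
    push_cast
    refine Finset.sum_congr rfl fun χ _ => ?_
    rw [hf, hf', map_intCast]
  have hsumP : ∀ (g h : G) (f f' : IrrCharacter G → ℤ), IsConj g h →
      (∀ χ : IrrCharacter G, (χ : G → ℂ) g = f χ) →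
      (∀ χ : IrrCharacter G, (χ : G → ℂ) h = f' χ) →
      ((∑ χ, f χ * f' χ : ℤ) : ℂ) = (Nat.card (Subgroup.centralizer ({h} : Set G)) : ℂ) := by
    intro g h f f' hc hf hf'
    rw [hsum0 g h f f' hf hf']
    have h0 := sum_irr_mul_conj g h
    rw [if_pos hc] at h0
    exact h0
  have hsumN : ∀ (g h : G) (f f' : IrrCharacter G → ℤ), ¬ IsConj g h →
      (∀ χ : IrrCharacter G, (χ : G → ℂ) g = f χ) →
      (∀ χ : IrrCharacter G, (χ : G → ℂ) h = f' χ) →
      ((∑ χ, f χ * f' χ : ℤ) : ℂ) = 0 := by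
    intro g h f f' hc hf hf'
    rw [hsum0 g h f f' hf hf']
    have h0 := sum_irr_mul_conj g h
    rw [if_neg hc] at h0
    exact h0
  have hx2 : x * x = t := by
    have h12 : (r 1 * r 1 : D8) = r 2 := by decide
    rw [hx, ← map_mul, h12]
    exact iot_r2 t e ht
  have htt : t * t = 1 := by
    rw [← sq, ← ht, pow_orderOf_eq_one]
  have ht1 : t ≠ 1 := by
    rintro h
    rw [h] at ht
    simp at ht
  have hx1 : x ≠ 1 := by
    intro h
    rw [h, one_mul] at hx2
    exact ht1 hx2.symm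
  have hnconj1 : ¬ IsConj t x := by
    intro h
    obtain ⟨hh, -⟩ := order_two_of_conj t e ht h
    rw [hx2] at hh
    exact ht1 hh
  have hnconj2 : ¬ IsConj t 1 := by
    intro h
    exact ht1 (isConj_one_right.mp (isConj_comm.mp h))
  have hnconj3 : ¬ IsConj x 1 := by
    intro h
    exact hx1 (isConj_one_right.mp (isConj_comm.mp h))
  have O1 : ∑ i, a i ^ 2 = 8 := by
    have := hsumP t t a a (IsConj.refl _) ha ha
    rw [card_cent t e] at this
    have h2 : ((∑ χ, a χ * a χ : ℤ) : ℂ) = ((8 : ℤ) : ℂ) := by rw [this]; norm_num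
    have h3 : ∑ χ, a χ * a χ = 8 := by exact_mod_cast h2
    simpa [sq] using h3
  have O2 : ∑ i, b i ^ 2 = 4 := by
    have := hsumP x x b b (IsConj.refl _) hb hb
    rw [card_cent_x t e ht] at this
    have h2 : ((∑ χ, b χ * b χ : ℤ) : ℂ) = ((4 : ℤ) : ℂ) := by rw [this]; norm_num
    have h3 : ∑ χ, b χ * b χ = 4 := by exact_mod_cast h2
    simpa [sq] using h3
  have O3 : ∑ i, a i * b i = 0 := by
    have := hsumN t x a b hnconj1 ha hb
    exact_mod_cast this
  have O4 : ∑ i, b i * d i = 0 := by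
    have := hsumN x 1 b d hnconj3 hb hd
    exact_mod_cast this
  have O5 : ∑ i, a i * d i = 0 := by
    have := hsumN t 1 a d hnconj2 ha hd
    exact_mod_cast this
  -- class size
  set N := Nat.card {y : G // IsConj t y} with hN
  have hNcard : N * 8 = Nat.card G := by
    have h1 := card_isConj_mul_card_centralizer t
    rw [card_cent t e] at h1
    have h2 : Nat.card {y : G // IsConj y t} = N := by
      rw [hN]
      exact Nat.card_congr (Equiv.subtypeEquivRight fun y => isConj_comm)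
    rw [h2] at h1
    exact h1
  have hNpos : 0 < N := by
    have : 0 < Nat.card G := Nat.card_pos
    rw [← hNcard] at this
    omega
  have hNC : (N : ℂ) ≠ 0 := by exact_mod_cast hNpos.ne'
  have hcount : ∀ (c₀ : D8) (f : IrrCharacter G → ℤ), (c₀ = r 1 ∨ c₀ = r 2) →
      (∀ χ : IrrCharacter G, (χ : G → ℂ) (iot t e c₀) = f χ) →
      ∑ χ, (a χ : ℂ) * (a χ : ℂ) * (f χ : ℂ) / (d χ : ℂ) = 32 / (N : ℂ) := by
    intro c₀ f hc₀ hf
    have h1 := card_product_eq t t (iot t e c₀)
    rw [card_count t e ht hidx c₀ hc₀, ← hN, ← hNcard] at h1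
    have h2 : ∑ χ : IrrCharacter G, (χ : G → ℂ) t * (χ : G → ℂ) t * conj ((χ : G → ℂ) (iot t e c₀)) /
        (χ : G → ℂ) 1 = ∑ χ, (a χ : ℂ) * (a χ : ℂ) * (f χ : ℂ) / (d χ : ℂ) := by
      refine Finset.sum_congr rfl fun χ _ => ?_
      rw [ha, hf, hd, map_intCast]
    rw [h2] at h1
    have e1 : (N : ℂ) * N / ((N * 8 : ℕ) : ℂ) = (N : ℂ) / 8 := by
      push_cast
      field_simp
    rw [e1] at h1
    rw [eq_div_iff hNC]
    push_cast at h1
    linear_combination (-8 : ℂ) * h1
  have hcast : ∀ f : IrrCharacter G → ℤ,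
      ∑ χ, (a χ : ℂ) * (a χ : ℂ) * (f χ : ℂ) / (d χ : ℂ) = 32 / (N : ℂ) →
      ∑ χ, (a χ : ℚ) ^ 2 * (f χ : ℚ) / (d χ : ℚ) = 32 / ((N : ℤ) : ℚ) := by
    intro f hf
    have : ((∑ χ, (a χ : ℚ) ^ 2 * (f χ : ℚ) / (d χ : ℚ) : ℚ) : ℂ) = ((32 / ((N : ℤ) : ℚ) : ℚ) : ℂ) := by
      push_cast
      rw [← hf]
      refine Finset.sum_congr rfl fun χ _ => ?_
      ring
    exact_mod_cast this
  have F2 := hcast b (hcount (r 1) b (Or.inl rfl) hb)
  have F1' := hcast a (hcount (r 2) a (Or.inr rfl) (fun χ => by rw [iot_r2 t e ht]; exact ha χ))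
  have F1 : ∑ χ, (a χ : ℚ) ^ 3 / (d χ : ℚ) = 32 / ((N : ℤ) : ℚ) := by
    rw [← F1']
    refine Finset.sum_congr rfl fun χ _ => ?_
    ring
  have hfin := Arith.sum_arith a b d i₀ (N : ℤ) (by exact_mod_cast hNpos) h0a h0b h0d hdpos hab h8
    O1 O2 O3 O4 O5 F1 F2
  rcases hfin with h | h
  · left
    have : N = 21 := by exact_mod_cast h
    rw [← hNcard, this]
  · right
    have : N = 45 := by exact_mod_cast h
    rw [← hNcard, this]

end Setup

end Cfsg.Agent.Lib.Invol8.Main
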