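import Cfsg.Agent.Lib.Invol8.Main

/-!
# Simplicity of groups with involution centraliser `D₈` and no subgroups of index two
-/

set_option autoImplicit false
set_option linter.style.haveILetI false
set_option linter.unusedVariables false
set_option linter.unusedSectionVars false
set_option linter.unnecessarySeqFocus false

namespace Cfsg.Agent.Lib.Invol8.Simple

open DihedralGroup Cfsg Cfsg.Agent.Lib.Invol8.Main
open scoped Pointwise

/-- An involution acting without nontrivial fixed points on a normal subgroup of odd order inverts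
it. -/
lemma inverts_of_fpf {G : Type*} [Group G] [Finite G] (N : Subgroup G) [hN : N.Normal] (u : G)
    (hu : u * u = 1) (hfp : ∀ x ∈ N, x * u = u * x → x = 1) {n : G} (hn : n ∈ N) :
    u * n * u⁻¹ = n⁻¹ := by
  have hui : u⁻¹ = u := inv_eq_of_mul_eq_one_right hu
  let f : N → N := fun m => ⟨m.1⁻¹ * (u * m.1 * u⁻¹), N.mul_mem (N.inv_mem m.2) (hN.conj_mem _ m.2 u)⟩
  have hinj : Function.Injective f := by
    intro a b hab
    have h1 : a.1⁻¹ * (u * a.1 * u⁻¹) = b.1⁻¹ * (u * b.1 * u⁻¹) := congrArg Subtype.val hab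
    have h2 : (b.1 * a.1⁻¹) * u = u * (b.1 * a.1⁻¹) := by
      have h3 : b.1 * a.1⁻¹ = u * b.1 * u⁻¹ * (u * a.1 * u⁻¹)⁻¹ := by
        have h4 : u * b.1 * u⁻¹ = b.1 * (a.1⁻¹ * (u * a.1 * u⁻¹)) := by rw [h1]; group
        rw [h4]; group
      calc (b.1 * a.1⁻¹) * u = u * b.1 * u⁻¹ * (u * a.1 * u⁻¹)⁻¹ * u := by rw [← h3]
        _ = u * (b.1 * a.1⁻¹) := by group
    have h5 := hfp _ (N.mul_mem b.2 (N.inv_mem a.2)) h2
    apply Subtype.ext
    have : b.1 = a.1 := by
      rw [mul_inv_eq_one] at h5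
      exact h5
    exact this.symm
  have hsurj := Finite.injective_iff_surjective.mp hinj
  obtain ⟨m, hm⟩ := hsurj ⟨n, hn⟩
  have hm' : m.1⁻¹ * (u * m.1 * u⁻¹) = n := congrArg Subtype.val hm
  rw [← hm', hui]
  have : (m.1⁻¹ * (u * m.1 * u))⁻¹ = u⁻¹ * m.1⁻¹ * u⁻¹ * m.1 := by group
  rw [this, hui]
  calc u * (m.1⁻¹ * (u * m.1 * u)) * u = u * m.1⁻¹ * u * m.1 * (u * u) := by group
    _ = _ := by rw [hu]; group

section

variable {G : Type*} [Group G] [Finite G] (t : G)
  (e : Subgroup.centralizer ({t} : Set G) ≃* DihedralGroup 4)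

include e in
/-- All involutions of `G` are conjugate. -/
lemma conj_of_invol (ht : orderOf t = 2) (hidx : ∀ H : Subgroup G, H.index ≠ 2) {u : G}
    (hu : orderOf u = 2) : IsConj t u := by
  haveI : Fact (Nat.Prime 2) := ⟨Nat.prime_two⟩
  obtain ⟨P, hP⟩ := exists_sylow t e ht
  have hpg : IsPGroup 2 (Subgroup.zpowers u) := by
    apply IsPGroup.of_card (n := 1)
    rw [Nat.card_zpowers, hu]; norm_num
  obtain ⟨Q, hQ⟩ := hpg.exists_le_sylow
  have huQ : u ∈ (Q : Subgroup G) := hQ (Subgroup.mem_zpowers u)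
  obtain ⟨g, hg⟩ := MulAction.exists_smul_eq G Q P
  have h1 : MulAut.conj g • (Q : Subgroup G) = (P : Subgroup G) := by
    rw [← hg]; rfl
  have h2 : g * u * g⁻¹ ∈ (P : Subgroup G) := by
    rw [← h1]
    exact Subgroup.smul_mem_pointwise_smul u (MulAut.conj g) _ huQ
  rw [hP, Subgroup.mem_centralizer_singleton_iff] at h2
  obtain ⟨c, hc⟩ := iot_surj t e h2
  have hord : orderOf c = 2 := by
    rw [← orderOf_injective _ (iot_inj t e), hc, ← hu]
    exact orderOf_injective (MulAut.conj g).toMonoidHom (MulAut.conj g).injective u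
  have hc1 : c * c = 1 := by
    rw [← sq, ← hord, pow_orderOf_eq_one]
  have hc2 : c ≠ 1 := by
    rintro rfl
    simp at hord
  have key : ∀ c : D8, c * c = 1 → c ≠ 1 → c = r 2 ∨ ∃ i, c = sr i := by decide
  have hconj : IsConj t (g * u * g⁻¹) := by
    rw [← hc]
    rcases key c hc1 hc2 with rfl | ⟨i, rfl⟩
    · rw [iot_r2 t e ht]
    · exact conj_sr t e ht hidx i
  exact hconj.trans (isConj_comm.mp (isConj_iff.mpr ⟨g, rfl⟩))

include e in
/-- A normal subgroup of odd order is trivial. -/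
lemma eq_bot_of_odd (ht : orderOf t = 2) (hidx : ∀ H : Subgroup G, H.index ≠ 2) (N : Subgroup G)
    [hN : N.Normal] (hodd : Odd (Nat.card N)) : N = ⊥ := by
  have hfp0 : ∀ x ∈ N, x * t = t * x → x = 1 := by
    intro x hx hc
    obtain ⟨c, rfl⟩ := iot_surj t e hc
    have h1 : orderOf (iot t e c) ∣ Nat.card N := Subgroup.orderOf_dvd_natCard N hx
    have h2 : orderOf (iot t e c) ∣ 8 := by
      rw [orderOf_injective _ (iot_inj t e), ← card_D8]
      exact orderOf_dvd_natCard c
    have h3 : Nat.Coprime (Nat.card N) 8 := by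
      have : Nat.Coprime (Nat.card N) (2 ^ 3) := Nat.Coprime.pow_right 3 (Nat.coprime_two_right.mpr hodd)
      simpa using this
    have h4 := Nat.Coprime.eq_one_of_dvd (h3.coprime_dvd_left h1) h2
    exact orderOf_eq_one_iff.mp h4
  have hfp : ∀ u, IsConj t u → ∀ x ∈ N, x * u = u * x → x = 1 := by
    intro u hu x hx hc
    obtain ⟨g, rfl⟩ := isConj_iff.mp hu
    have h5 := hfp0 (g⁻¹ * x * g) (by simpa using hN.conj_mem x hx g⁻¹) (by
      have : x * (g * t * g⁻¹) * g = (g * t * g⁻¹) * x * g := by rw [hc]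
      calc g⁻¹ * x * g * t = g⁻¹ * (x * (g * t * g⁻¹) * g) := by group
        _ = g⁻¹ * ((g * t * g⁻¹) * x * g) := by rw [this]
        _ = _ := by group)
    have : x = g * (g⁻¹ * x * g) * g⁻¹ := by group
    rw [this, h5]
    group
  have htt := conj_sr t e ht hidx 0
  have htt2 := conj_sr t e ht hidx 2
  have hs1 := (order_two_of_conj t e ht htt).1
  have hs2 := (order_two_of_conj t e ht htt2).1
  have htsq := (order_two_of_conj t e ht (IsConj.refl t)).1
  rw [eq_bot_iff]
  intro n hn
  rw [Subgroup.mem_bot]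
  have i1 := inverts_of_fpf N t htsq (hfp t (IsConj.refl t)) hn
  have i2 := inverts_of_fpf N _ hs1 (hfp _ htt) hn
  have i3 := inverts_of_fpf N _ hs2 (hfp _ htt2) hn
  have hrel : iot t e (sr 2) = t * iot t e (sr 0) := by
    have : (sr 2 : D8) = r 2 * sr 0 := by decide
    rw [this, map_mul, iot_r2 t e ht]
  rw [hrel] at i3
  generalize iot t e (sr 0) = s at i2 i3
  have hnn : n⁻¹ = n := by
    have : (t * s) * n * (t * s)⁻¹ = t * (s * n * s⁻¹) * t⁻¹ := by group
    rw [this, i2] at i3
    have h6 : t * n⁻¹ * t⁻¹ = n := by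
      have : t * n⁻¹ * t⁻¹ = (t * n * t⁻¹)⁻¹ := by group
      rw [this, i1, inv_inv]
    rw [h6] at i3
    exact i3.symm
  have hn2 : n ^ 2 = 1 := by
    rw [sq]
    nth_rewrite 1 [← hnn]
    simp
  have h7 : orderOf n ∣ 2 := orderOf_dvd_of_pow_eq_one hn2
  have h8 : orderOf n ∣ Nat.card N := Subgroup.orderOf_dvd_natCard N hn
  have h9 : Nat.Coprime (Nat.card N) 2 := Nat.coprime_two_right.mpr hodd
  exact orderOf_eq_one_iff.mp (Nat.Coprime.eq_one_of_dvd (h9.coprime_dvd_left h8) h7)

include e in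
/-- A normal subgroup of even order is everything. -/
lemma eq_top_of_even (ht : orderOf t = 2) (hidx : ∀ H : Subgroup G, H.index ≠ 2) (N : Subgroup G)
    [hN : N.Normal] (heven : 2 ∣ Nat.card N) : N = ⊤ := by
  haveI : Fact (Nat.Prime 2) := ⟨Nat.prime_two⟩
  obtain ⟨x, hx⟩ := exists_prime_orderOf_dvd_card' 2 heven
  have hx' : orderOf (x : G) = 2 := by
    rw [Subgroup.orderOf_coe]; exact hx
  have hconj := conj_of_invol t e ht hidx hx'
  have hmem : ∀ u, IsConj t u → u ∈ N := by
    intro u hu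
    have h1 : IsConj (x : G) u := (isConj_comm.mp hconj).trans hu
    obtain ⟨g, rfl⟩ := isConj_iff.mp h1
    exact hN.conj_mem _ x.2 g
  have hsr : ∀ i, iot t e (sr i) ∈ N := fun i => hmem _ (conj_sr t e ht hidx i)
  have hall : ∀ c, iot t e c ∈ N := by
    have key : ∀ c : D8, (∃ i, c = sr i) ∨ ∃ i j, c = sr i * sr j := by decide
    intro c
    rcases key c with ⟨i, rfl⟩ | ⟨i, j, rfl⟩
    · exact hsr i
    · rw [map_mul]
      exact N.mul_mem (hsr i) (hsr j)
  obtain ⟨P, hP⟩ := exists_sylow t e ht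
  have hPN : (P : Subgroup G) ≤ N := by
    rw [hP]
    intro u hu
    rw [Subgroup.mem_centralizer_singleton_iff] at hu
    obtain ⟨c, rfl⟩ := iot_surj t e hu
    exact hall c
  have htop := P.normalizer_sup_eq_top' hPN
  have hnorm : Subgroup.normalizer ((P : Subgroup G) : Set G) ≤ N := by
    intro g hg
    rw [Subgroup.mem_normalizer_iff] at hg
    have htP : t ∈ (P : Subgroup G) := by
      rw [hP, Subgroup.mem_centralizer_singleton_iff]
    have hgt : g * t * g⁻¹ ∈ (P : Subgroup G) := (hg t).mp htP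
    rw [hP, Subgroup.mem_centralizer_singleton_iff] at hgt
    obtain ⟨c, hc⟩ := iot_surj t e hgt
    have hcc : ∀ y : D8, y * c = c * y := by
      intro y
      apply iot_inj t e
      rw [map_mul, map_mul, hc]
      have hy : iot t e y ∈ (P : Subgroup G) := by
        rw [hP, Subgroup.mem_centralizer_singleton_iff]
        exact iot_comm t e y
      have hy2 : g⁻¹ * iot t e y * g ∈ (P : Subgroup G) := by
        have := (hg (g⁻¹ * iot t e y * g)).mpr (by
          have h3 : g * (g⁻¹ * iot t e y * g) * g⁻¹ = iot t e y := by group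
          rw [h3]; exact hy)
        exact this
      rw [hP, Subgroup.mem_centralizer_singleton_iff] at hy2
      calc iot t e y * (g * t * g⁻¹) = g * ((g⁻¹ * iot t e y * g) * t) * g⁻¹ := by group
        _ = g * (t * (g⁻¹ * iot t e y * g)) * g⁻¹ := by rw [hy2]
        _ = _ := by group
    have hgt2 : g * t * g⁻¹ = t := by
      rcases central_D8 c hcc with rfl | rfl
      · rw [map_one] at hc
        have h4 : t = 1 := conj_eq_one_iff.mp hc.symm
        rw [h4] at ht
        simp at ht
      · rw [← hc, iot_r2 t e ht]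
    have hgD : g * t = t * g := by
      calc g * t = g * t * g⁻¹ * g := by group
        _ = t * g := by rw [hgt2]
    have : g ∈ (P : Subgroup G) := by
      rw [hP, Subgroup.mem_centralizer_singleton_iff]; exact hgD
    exact hPN this
  exact top_le_iff.mp (by rw [← htop]; exact sup_le hnorm le_rfl)

include e in
theorem isSimpleGroup_of (ht : orderOf t = 2) (hidx : ∀ H : Subgroup G, H.index ≠ 2) :
    IsSimpleGroup G := by
  have ht1 : t ≠ 1 := by
    rintro rfl
    simp at ht
  haveI : Nontrivial G := ⟨⟨t, 1, ht1⟩⟩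
  refine ⟨fun N hN => ?_⟩
  rcases Nat.even_or_odd (Nat.card N) with h | h
  · right
    exact eq_top_of_even t e ht hidx N h.two_dvd
  · left
    exact eq_bot_of_odd t e ht hidx N h

end

end Cfsg.Agent.Lib.Invol8.Simple
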